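import Groth.Agent.NilSmooth.Basic
import Mathlib.Algebra.DualNumber
import Mathlib.Algebra.Algebra.Tower
import Mathlib.RingTheory.Kaehler.Basic
import Mathlib.RingTheory.Smooth.Basic
import Mathlib.RingTheory.Derivation.Basic
import Mathlib.RingTheory.Polynomial.Basic
import Mathlib.Algebra.CharP.Defs
import Mathlib.Algebra.Module.Projective

/-! Differentials of flat algebras over `k[X]/(X^(n+1))`. -/

set_option autoImplicit false
set_option maxSynthPendingDepth 3

universe u

open Polynomial TensorProduct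

noncomputable section

namespace Groth.Agent.TruncDef

variable {k : Type u} [Field k] {n : ℕ} {D : Type u} [CommRing D] [Algebra k D] {τ : D}

theorem exists_aeval (e : (k[X] ⧸ Ideal.span {(X : k[X]) ^ (n + 1)}) ≃ₐ[k] D)
    (he : e (Ideal.Quotient.mk (Ideal.span {(X : k[X]) ^ (n + 1)}) X) = τ) (x : D) :
    ∃ p : k[X], x = aeval τ p := by
  obtain ⟨p, hp⟩ := Ideal.Quotient.mk_surjective (e.symm x)
  refine ⟨p, ?_⟩
  have h : aeval τ = e.toAlgHom.comp (Ideal.Quotient.mkₐ k (Ideal.span {(X : k[X]) ^ (n + 1)})) :=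
    Polynomial.algHom_ext (by simp [he])
  rw [h]
  simp [hp]

theorem pow_succ_eq_zero (e : (k[X] ⧸ Ideal.span {(X : k[X]) ^ (n + 1)}) ≃ₐ[k] D)
    (he : e (Ideal.Quotient.mk (Ideal.span {(X : k[X]) ^ (n + 1)}) X) = τ) : τ ^ (n + 1) = 0 := by
  rw [← he, ← map_pow, ← map_pow, Ideal.Quotient.eq_zero_iff_mem.2 (Ideal.mem_span_singleton_self _), map_zero]

variable (B : Type u) [CommRing B] [Algebra k B] [Algebra D B] [IsScalarTower k D B]

theorem formallySmooth (e : (k[X] ⧸ Ideal.span {(X : k[X]) ^ (n + 1)}) ≃ₐ[k] D)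
    (he : e (Ideal.Quotient.mk (Ideal.span {(X : k[X]) ^ (n + 1)}) X) = τ) [Module.Flat D B]
    (hsm : Algebra.FormallySmooth k (B ⧸ Ideal.span {algebraMap D B τ})) :
    Algebra.FormallySmooth D B := by
  let ε : D →+* k := ((Ideal.Quotient.lift (Ideal.span {(X : k[X]) ^ (n + 1)}) (evalRingHom 0)
    (fun p hp => by obtain ⟨q, rfl⟩ := Ideal.mem_span_singleton'.1 hp; simp)).comp e.symm.toRingEquiv.toRingHom)
  have hε : ∀ p : k[X], ε (aeval τ p) = p.eval 0 := fun p => by
    have h : aeval τ p = e (Ideal.Quotient.mk _ p) := by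
      have h : aeval τ = e.toAlgHom.comp (Ideal.Quotient.mkₐ k (Ideal.span {(X : k[X]) ^ (n + 1)})) :=
        Polynomial.algHom_ext (by simp [he])
      rw [h]
      rfl
    simp [ε, h]
  have hker : RingHom.ker ε = Ideal.span {τ} := by
    ext x
    obtain ⟨p, rfl⟩ := exists_aeval e he x
    rw [RingHom.mem_ker, hε]
    constructor
    · intro h0
      rw [← coeff_zero_eq_eval_zero, ← X_dvd_iff] at h0
      obtain ⟨q, rfl⟩ := h0
      exact Ideal.mem_span_singleton'.2 ⟨aeval τ q, by simp [mul_comm]⟩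
    · intro hx
      obtain ⟨c, hc⟩ := Ideal.mem_span_singleton'.1 hx
      rw [← hε, ← hc, map_mul]
      simpa using Or.inr (hε X)
  rw [← RingHom.formallySmooth_algebraMap]
  refine Groth.Agent.NilSmooth.formallySmooth_of_flat_nilpotent n ε
    (Ideal.Quotient.mk (Ideal.span {algebraMap D B τ}))
    (algebraMap k (B ⧸ Ideal.span {algebraMap D B τ})) (fun c => ⟨aeval τ (C c), by rw [hε]; simp⟩)
    Ideal.Quotient.mk_surjective (RingHom.ext fun x => ?_) ?_ ?_ (RingHom.formallySmooth_algebraMap.2 hsm)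
  · have hmem : x - algebraMap k D (ε x) ∈ Ideal.span {τ} := by
      rw [← hker, RingHom.mem_ker, map_sub, sub_eq_zero]
      have := hε (C (ε x))
      simpa using this.symm
    obtain ⟨c, hc⟩ := Ideal.mem_span_singleton'.1 hmem
    simp only [RingHom.comp_apply]
    rw [← Ideal.Quotient.mk_algebraMap, Ideal.Quotient.mk_eq_mk_iff_sub_mem,
      IsScalarTower.algebraMap_apply k D B, ← map_sub, ← hc, map_mul]
    exact Ideal.mul_mem_left _ _ (Ideal.mem_span_singleton_self _)
  · rw [hker, Ideal.span_singleton_pow, pow_succ_eq_zero e he, Ideal.span_singleton_zero]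
  · rw [hker, Ideal.mk_ker, Ideal.map_span, Set.image_singleton]

theorem exists_lift {R A B' C : Type u} [CommRing R] [CommRing A] [CommRing B'] [CommRing C] [Algebra R B']
    [Algebra.FormallySmooth R B'] (ψ : R →+* A) (q : A →+* C) (hq : Function.Surjective q)
    (hq' : IsNilpotent (RingHom.ker q)) (f : B' →+* C) (h : q.comp ψ = f.comp (algebraMap R B')) :
    ∃ g : B' →+* A, q.comp g = f ∧ g.comp (algebraMap R B') = ψ := by
  algebraize [ψ, q.comp ψ]
  let qA : A →ₐ[R] C := { q with commutes' := fun _ => rfl }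
  let fA : B' →ₐ[R] C := { f with commutes' := fun r => (RingHom.congr_fun h r).symm }
  refine ⟨(Algebra.FormallySmooth.liftOfSurjective fA qA hq hq').toRingHom,
    RingHom.ext fun x => Algebra.FormallySmooth.liftOfSurjective_apply fA qA hq hq' x,
    RingHom.ext fun r => (Algebra.FormallySmooth.liftOfSurjective fA qA hq hq').commutes r⟩

/-- The derivation `d/dt` from `B` to `B/t^n B`. -/
theorem exists_derivation (e : (k[X] ⧸ Ideal.span {(X : k[X]) ^ (n + 1)}) ≃ₐ[k] D)
    (he : e (Ideal.Quotient.mk (Ideal.span {(X : k[X]) ^ (n + 1)}) X) = τ) [Algebra.FormallySmooth D B] :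
    ∃ δ : Derivation k B (B ⧸ Ideal.span {algebraMap D B τ ^ n}), δ (algebraMap D B τ) = 1 := by
  set M := B ⧸ Ideal.span {algebraMap D B τ ^ n}
  set s : M := Ideal.Quotient.mk _ (algebraMap D B τ)
  have hs : s ^ n = 0 := by
    rw [← map_pow]; exact Ideal.Quotient.eq_zero_iff_mem.2 (Ideal.mem_span_singleton_self _)
  let φ : k[X] →ₐ[k] DualNumber M := aeval (TrivSqZeroExt.inl s + TrivSqZeroExt.inr (1 : M))
  have hφ : φ (X ^ (n + 1)) = 0 := by
    simp only [φ, map_pow, aeval_X]
    ext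
    · simp [pow_succ, hs]
    · simp [hs]
  let ψ : D →ₐ[k] DualNumber M := (Ideal.Quotient.liftₐ (Ideal.span {(X : k[X]) ^ (n + 1)}) φ
    (fun p hp => by obtain ⟨q, rfl⟩ := Ideal.mem_span_singleton'.1 hp; rw [map_mul, hφ, mul_zero])).comp
      e.symm.toAlgHom
  have hψ : ψ τ = TrivSqZeroExt.inl s + TrivSqZeroExt.inr (1 : M) := by
    have h : e.symm τ = Ideal.Quotient.mk _ X := (AlgEquiv.symm_apply_eq e).2 he.symm
    simp [ψ, φ, h]
  have hfst : ((TrivSqZeroExt.fstHom k M M).comp ψ) = IsScalarTower.toAlgHom k D M := by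
    refine AlgHom.ext fun x => ?_
    obtain ⟨p, rfl⟩ := exists_aeval e he x
    rw [← aeval_algHom_apply, ← aeval_algHom_apply]
    congr 2
    rw [AlgHom.comp_apply, hψ]
    simp [s, M]
  obtain ⟨g, hg, hgψ⟩ := exists_lift (B' := B) ψ.toRingHom (TrivSqZeroExt.fstHom k M M).toRingHom
    (fun m => ⟨(TrivSqZeroExt.inl m : DualNumber M), TrivSqZeroExt.fst_inl M m⟩)
    ⟨2, by
      rw [pow_two]
      refine le_bot_iff.1 (Ideal.mul_le.2 fun a ha b hb => ?_)
      have ha' : a.fst = 0 := ha
      have hb' : b.fst = 0 := hb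
      rw [Ideal.mem_bot]
      ext <;> simp [ha', hb']⟩
    (Ideal.Quotient.mk _) (RingHom.ext fun x => AlgHom.congr_fun hfst x)
  have hg' : ∀ x, (g x).fst = Ideal.Quotient.mk (Ideal.span {algebraMap D B τ ^ n}) x :=
    fun x => RingHom.congr_fun hg x
  have hk : ∀ c : k, g (algebraMap k B c) = algebraMap k (DualNumber M) c := fun c => by
    rw [IsScalarTower.algebraMap_apply k D B]
    exact (RingHom.congr_fun hgψ _).trans (ψ.commutes c)
  refine ⟨Derivation.mk'
    { toFun := fun x => (g x).snd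
      map_add' := fun x y => by simp
      map_smul' := fun c x => by
        rw [Algebra.smul_def, map_mul, hk, ← Algebra.smul_def, TrivSqZeroExt.snd_smul]
        rfl } (fun x y => ?_), ?_⟩
  · change (g (x * y)).snd = x • (g y).snd + y • (g x).snd
    rw [map_mul, TrivSqZeroExt.snd_mul, hg', hg', op_smul_eq_smul]
    rfl
  · change (g (algebraMap D B τ)).snd = 1
    rw [show g (algebraMap D B τ) = ψ τ from RingHom.congr_fun hgψ τ, hψ]
    simp

/-- The kernel of `Ω_{C/k} → Ω_{C/D}` is generated by `dt`. -/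
theorem exists_eq_smul_of_map_eq_zero (e : (k[X] ⧸ Ideal.span {(X : k[X]) ^ (n + 1)}) ≃ₐ[k] D)
    (he : e (Ideal.Quotient.mk (Ideal.span {(X : k[X]) ^ (n + 1)}) X) = τ)
    (C : Type u) [CommRing C] [Algebra k C] [Algebra D C] [IsScalarTower k D C]
    (η : Ω[C⁄k]) (h : KaehlerDifferential.map k D C C η = 0) :
    ∃ c : C, η = c • KaehlerDifferential.D k C (algebraMap D C τ) := by
  obtain ⟨x, rfl⟩ := (KaehlerDifferential.exact_mapBaseChange_map k D C η).1 h
  clear h
  induction x with
  | zero => exact ⟨0, by simp⟩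
  | add x y hx hy =>
    obtain ⟨a, ha⟩ := hx
    obtain ⟨b, hb⟩ := hy
    exact ⟨a + b, by rw [map_add, ha, hb, add_smul]⟩
  | tmul c ω =>
    have hω : ω ∈ Submodule.span D {KaehlerDifferential.D k D τ} := by
      have htop : ω ∈ Submodule.span D (Set.range (KaehlerDifferential.D k D)) := by
        rw [KaehlerDifferential.span_range_derivation]; trivial
      refine Submodule.span_le.2 ?_ htop
      rintro _ ⟨x, rfl⟩
      obtain ⟨p, rfl⟩ := exists_aeval e he x
      exact Submodule.mem_span_singleton.2 ⟨aeval τ (derivative p), ((KaehlerDifferential.D k D).map_aeval p τ).symm⟩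
    obtain ⟨d, rfl⟩ := Submodule.mem_span_singleton.1 hω
    exact ⟨c * algebraMap D C d, by
      rw [KaehlerDifferential.mapBaseChange_tmul, map_smul, KaehlerDifferential.map_D, mul_smul,
        algebraMap_smul]⟩

variable {B}

theorem tmul_smul_eq {R : Type u} [CommRing R] [Algebra B R] {M : Type u} [AddCommGroup M] [Module B M]
    (b : B) (m : M) : (1 : R) ⊗ₜ[B] (b • m) = (algebraMap B R b) • ((1 : R) ⊗ₜ[B] m) := by
  rw [TensorProduct.tmul_smul, algebraMap_smul]

/-- A split sequence `R → M → P → 0` after base change to `A`. -/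
theorem split_baseChange {R A M P : Type u} [CommRing R] [CommRing A] [Algebra R A] [AddCommGroup M] [Module R M]
    [AddCommGroup P] [Module R P] [Module.Projective R P] (v : M) (π : M →ₗ[R] P) (s : P →ₗ[R] M) (ρ0 : M →ₗ[R] A)
    (hv : ρ0 v = 1) (hπv : π v = 0) (hdec : ∀ η, ∃ b : R, η = s (π η) + b • v) :
    Module.Projective A (A ⊗[R] M) ∧
    Function.Injective (LinearMap.toSpanSingleton A (A ⊗[R] M) ((1 : A) ⊗ₜ[R] v)) ∧
    Function.Exact (LinearMap.toSpanSingleton A (A ⊗[R] M) ((1 : A) ⊗ₜ[R] v)) (π.baseChange A) := by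
  set w : A ⊗[R] M := (1 : A) ⊗ₜ[R] v
  let σ := s.baseChange A
  let ρ : A ⊗[R] M →ₗ[A] A := LinearMap.liftBaseChange A ρ0
  have hρw : ρ w = 1 := by simp [ρ, w, hv]
  have hkey : ∀ x, x = σ (π.baseChange A x) + (ρ x - ρ (σ (π.baseChange A x))) • w := fun x => by
    induction x with
    | zero => simp
    | add x y hx hy =>
      simp only [map_add, add_sub_add_comm, add_smul]
      rw [add_add_add_comm, ← hx, ← hy]
    | tmul c η =>
      obtain ⟨b, hb⟩ := hdec η
      have h1 : σ (π.baseChange A (c ⊗ₜ[R] η)) = c ⊗ₜ[R] s (π η) := by simp [σ]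
      have h2 : ρ (c ⊗ₜ[R] η) - ρ (σ (π.baseChange A (c ⊗ₜ[R] η))) = c * algebraMap R A b := by
        rw [h1, ← map_sub, ← tmul_sub, show η - s (π η) = b • v from sub_eq_iff_eq_add'.2 hb]
        simp [ρ, hv, Algebra.smul_def, mul_comm]
      rw [h2, h1]
      conv_lhs => rw [hb, tmul_add]
      congr 1
      rw [mul_smul, algebraMap_smul, ← tmul_smul, TensorProduct.smul_tmul', smul_eq_mul, mul_one]
  refine ⟨Module.Projective.of_split (R := A) (M := A × (A ⊗[R] P))
      ((ρ - ρ ∘ₗ σ ∘ₗ π.baseChange A).prod (π.baseChange A)) (LinearMap.coprod (LinearMap.toSpanSingleton A _ w) σ)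
      (LinearMap.ext fun x => by simpa [add_comm] using (hkey x).symm), ?_, ?_⟩
  · intro a b h
    have := congrArg ρ h
    simpa [hρw] using this
  · intro x
    constructor
    · intro hx
      have h := hkey x
      rw [hx, map_zero, map_zero, sub_zero, zero_add] at h
      exact ⟨ρ x, h.symm⟩
    · rintro ⟨c, rfl⟩
      change π.baseChange A (c • w) = 0
      rw [map_smul, LinearMap.baseChange_tmul, hπv, tmul_zero, smul_zero]

/-- Everything needed about the differentials of `B`. -/
theorem main [CharZero k] (e : (k[X] ⧸ Ideal.span {(X : k[X]) ^ (n + 1)}) ≃ₐ[k] D)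
    (he : e (Ideal.Quotient.mk (Ideal.span {(X : k[X]) ^ (n + 1)}) X) = τ) [Module.Flat D B]
    (t : B) (ht : t = algebraMap D B τ) (hsm : Algebra.Smooth k (B ⧸ Ideal.span {t})) :
    Module.Projective B Ω[B⁄D] ∧
    KaehlerDifferential.map k D B B (KaehlerDifferential.D k B t) = 0 ∧
    t ^ n • KaehlerDifferential.D k B t = 0 ∧ t ^ (n + 1) = 0 ∧
    ∃ (ρ : Ω[B⁄k] →ₗ[B] B ⧸ Ideal.span {t ^ n}) (s : Ω[B⁄D] →ₗ[B] Ω[B⁄k]),
      ρ (KaehlerDifferential.D k B t) = 1 ∧ (∀ α, KaehlerDifferential.map k D B B (s α) = α) ∧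
      ∀ η, ∃ b : B, η = s (KaehlerDifferential.map k D B B η) + b • KaehlerDifferential.D k B t := by
  subst ht
  haveI := formallySmooth B e he hsm.formallySmooth
  have hproj : Module.Projective B Ω[B⁄D] := inferInstance
  have h0 : KaehlerDifferential.map k D B B (KaehlerDifferential.D k B (algebraMap D B τ)) = 0 := by
    rw [KaehlerDifferential.map_D]
    exact Derivation.map_algebraMap _ τ
  have ht1 : algebraMap D B τ ^ (n + 1) = 0 := by rw [← map_pow, pow_succ_eq_zero e he, map_zero]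
  have htn : algebraMap D B τ ^ n • KaehlerDifferential.D k B (algebraMap D B τ) = 0 := by
    have h1 := (KaehlerDifferential.D k B).leibniz_pow (algebraMap D B τ) (n + 1)
    rw [ht1, map_zero, Nat.add_sub_cancel, ← Nat.cast_smul_eq_nsmul k] at h1
    exact (smul_eq_zero.1 h1.symm).resolve_left (Nat.cast_ne_zero.2 n.succ_ne_zero)
  obtain ⟨δ, hδ⟩ := exists_derivation B e he
  obtain ⟨s, hs⟩ := Module.projective_lifting_property (KaehlerDifferential.map k D B B) LinearMap.id
    (KaehlerDifferential.map_surjective k D B)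
  have hs' : ∀ α, KaehlerDifferential.map k D B B (s α) = α := fun α => LinearMap.congr_fun hs α
  refine ⟨hproj, h0, htn, ht1, δ.liftKaehlerDifferential, s, ?_, hs', fun η => ?_⟩
  · rw [δ.liftKaehlerDifferential_comp_D, hδ]
  · obtain ⟨b, hb⟩ := exists_eq_smul_of_map_eq_zero e he B (η - s (KaehlerDifferential.map k D B B η))
      (by rw [map_sub, hs', sub_self])
    exact ⟨b, by rw [← hb]; abel⟩

end Groth.Agent.TruncDef
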